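import Groth.Prelude.Def_KRR
import Groth.Agent.S3197
import Groth.Agent.PerfB.FlatPull
import Groth.Agent.Sga67.PushFlat
import Groth.Agent.Sga67.K0Basic
import Groth.Agent.Sga67.K0Loc

/-!
# Generators of `K(P^n_Y)`

Two additive maps on `Kvb (P^n_Y)` (`Y` quasi-compact) which agree on the classes of `O(i) ⊗ p^* E`, `0 ≤ i ≤ n`,
`E` finite locally free on `Y`, are equal.
-/

set_option autoImplicit false

universe u w

open CategoryTheory CategoryTheory.Limits AlgebraicGeometry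

namespace Groth.Agent.Krr.H499.Gen

open Groth.Agent.Sga67 Groth.Agent.Sga67.TwistOver

variable (n : ℕ) (Y : Scheme.{u})

theorem flat_pr : Flat (KRR.pr n Y) :=
  MorphismProperty.of_isPullback (IsPullback.of_hasPullback
    (CohB1.ProjSpace.toSpec n (ULift.{u} ℤ)) (specULiftZIsTerminal.from Y))
      (PushFlat.flat_toSpec n _)

theorem clSub_eq_mk' {A : Type*} [Category* A] [Abelian A] {P : ObjectProperty A} {X : A} (h : P X) :
    KZero.clSub P X = K0Loc.mk P X h := K0Basic.clSub_of_prop h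

/-- Every class in `K(P^n_Y)` is `Σ_{i ≤ n} O(i) ⊗ p^* x_i`, `x_i ∈ K(Y)`. -/
theorem hom_ext [CompactSpace Y] {G : Type w} [AddCommGroup G] {a b : SGA6.Kvb (KRR.PY n Y) →+ G}
    (hab : ∀ i : ℕ, i ≤ n → ∀ E : Y.Modules, FlatMod.IsFinLocFree E →
      a (KRR.cl (KRR.PY n Y) (KRR.twF n Y (i : ℤ) ((Scheme.Modules.pullback (KRR.pr n Y)).obj E))) =
      b (KRR.cl (KRR.PY n Y) (KRR.twF n Y (i : ℤ) ((Scheme.Modules.pullback (KRR.pr n Y)).obj E)))) :
    a = b := by
  have hflat := flat_pr n Y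
  have h1 : PreservesFiniteLimits (Scheme.Modules.pullback (CohB1.ProjSpaceOver.toBase n Y)) :=
    PerfB.FlatPull.preservesFiniteLimits_pullback (KRR.pr n Y)
  have h2 : ∀ i : ℕ, PreservesFiniteLimits ((DCoh.tensorBi (X := CohB1.ProjSpaceOver n Y)).obj
    (Twist.twistOver n Y (i : ℤ))) := fun i => preservesFiniteLimits_tw n Y i
  have h3 : ∀ i : ℕ, PreservesFiniteColimits ((DCoh.tensorBi (X := CohB1.ProjSpaceOver n Y)).obj
    (Twist.twistOver n Y (i : ℤ))) := fun i => preservesFiniteColimits_tw n Y i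
  have hf : ∀ M : Y.Modules, FlatMod.IsFinLocFree M →
      FlatMod.IsFinLocFree ((Scheme.Modules.pullback (CohB1.ProjSpaceOver.toBase n Y)).obj M) :=
    fun M hM => PerfB.FlatPull.isFinLocFree_pullback _ hM
  have ht : ∀ (i : ℕ) (M : (CohB1.ProjSpaceOver n Y).Modules), FlatMod.IsFinLocFree M →
      FlatMod.IsFinLocFree (((DCoh.tensorBi (X := CohB1.ProjSpaceOver n Y)).obj
        (Twist.twistOver n Y (i : ℤ))).obj M) := fun i M hM => isFinLocFree_tw n Y i M hM
  have hsurj := (S3197.result Y n hf ht).2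
  refine AddMonoidHom.ext fun z => ?_
  obtain ⟨x, rfl⟩ := hsurj z
  simp only [map_sum]
  refine Finset.sum_congr rfl fun i _ => ?_
  let T := (SGA6.mapSub ((DCoh.tensorBi (X := CohB1.ProjSpaceOver n Y)).obj
    (Twist.twistOver n Y ((i : ℕ) : ℤ)))
      (fun M : (CohB1.ProjSpaceOver n Y).Modules => FlatMod.IsFinLocFree M)
      (fun M : (CohB1.ProjSpaceOver n Y).Modules => FlatMod.IsFinLocFree M) (ht i)).comp
    (SGA6.mapSub (Scheme.Modules.pullback (CohB1.ProjSpaceOver.toBase n Y))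
      (fun M : (Y).Modules => FlatMod.IsFinLocFree M)
      (fun M : (CohB1.ProjSpaceOver n Y).Modules => FlatMod.IsFinLocFree M) hf)
  have hT : ∀ E : Y.Modules, FlatMod.IsFinLocFree E →
      T (KZero.clSub (fun M : Y.Modules => FlatMod.IsFinLocFree M) E) =
      KRR.cl (KRR.PY n Y) (KRR.twF n Y (i : ℤ) ((Scheme.Modules.pullback (KRR.pr n Y)).obj E)) := by
    intro E hE
    rw [clSub_eq_mk' hE]
    simp only [T, AddMonoidHom.comp_apply, K0Loc.mapSub_mk]
    exact (clSub_eq_mk' (P := fun M : (CohB1.ProjSpaceOver n Y).Modules => FlatMod.IsFinLocFree M)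
      (ht i _ (hf E hE))).symm
  have hab' : a.comp T = b.comp T := by
    refine K0Basic.hom_ext_sub fun E hE => ?_
    refine (congrArg a (hT E hE)).trans (Eq.trans ?_ (congrArg b (hT E hE)).symm)
    exact hab i (Nat.lt_succ_iff.1 i.2) E hE
  exact DFunLike.congr_fun hab' (x i)

end Groth.Agent.Krr.H499.Gen
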