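import Groth.Prelude.Def_KRR
import Groth.Agent.CohqB.RelVan
import Groth.Agent.CohqA.HOpen
import Groth.Agent.Sga67.PullVan
import Groth.Agent.Sga67.PushTwistB
import Groth.Agent.Sga67.TwistOver
import Groth.Agent.Ega3B.ProjProper
import Groth.Agent.S0844

/-!
# The bundles `O(d) ⊗ p^* E`, `d ≥ 0`, on `P^n_Y` are regular

* `isZero_RpushAb_of_charts`: `R^q p_* F = 0` for `F` quasi-coherent on `P^n_Y` can be checked on the charts
  `P^n_{Γ(Y, V)}`, `V ⊆ Y` affine open.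
* `isRegSheaf_twF_pull`: `O(d) ⊗ p^* E` is regular for `d ≥ 0` and `E` finite locally free (any scheme `Y`).
-/

set_option autoImplicit false

universe u

open CategoryTheory CategoryTheory.Limits AlgebraicGeometry

namespace Groth.Agent.Krr.H499.RegTw

open Groth.Agent.Ega3A.PChart Groth.Agent.Sga67.TwistProj

variable (n : ℕ) {Y : Scheme.{u}}

/-- The range of the chart over an affine open. -/
theorem opensRange_chart {V : Y.Opens} (hV : IsAffineOpen V) :
    (chart n hV.fromSpec).opensRange = KRR.pr n Y ⁻¹ᵁ V := by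
  refine le_antisymm ?_ (Sga67.PushTwist.le_range hV)
  rintro x ⟨y, rfl⟩
  change (KRR.pr n Y) (chart n hV.fromSpec y) ∈ V
  have h1 : (chart n hV.fromSpec ≫ KRR.pr n Y) y =
      (CohB1.ProjSpace.toSpec n Γ(Y, V) ≫ hV.fromSpec) y := by rw [← chart_toBase]
  have h2 : (KRR.pr n Y) (chart n hV.fromSpec y) =
      hV.fromSpec (CohB1.ProjSpace.toSpec n Γ(Y, V) y) := by
    simpa using h1
  rw [h2]
  have h3 := hV.range_fromSpec
  rw [← SetLike.mem_coe, ← h3]
  exact ⟨_, rfl⟩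

/-- Cohomology over `p⁻¹ V` is cohomology of the chart. -/
noncomputable def chartHH {V : Y.Opens} (hV : IsAffineOpen V) (F : (KRR.PY n Y).Modules) (q : ℕ) :
    Coh.HH (KRR.pr n Y ⁻¹ᵁ V).toScheme (F.restrict (KRR.pr n Y ⁻¹ᵁ V).ι) q ≃+
      Coh.HH (CohB1.ProjSpace n Γ(Y, V)) (F.restrict (chart n hV.fromSpec)) q :=
  (CohqA.HOpen.HHEquiv (KRR.pr n Y ⁻¹ᵁ V).ι F (KRR.pr n Y ⁻¹ᵁ V) (by simp) q).symm.trans
    (CohqA.HOpen.HHEquiv (chart n hV.fromSpec) F (KRR.pr n Y ⁻¹ᵁ V)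
      (by rw [← opensRange_chart n hV, Scheme.Hom.image_top_eq_opensRange]) q)

instance : QuasiCompact (KRR.pr n Y) := by
  have := Ega3B.ProjProper.isProper_toSpec n (ULift.{u} ℤ)
  exact MorphismProperty.pullback_snd _ _ inferInstance

instance : QuasiSeparated (KRR.pr n Y) := by
  have := Ega3B.ProjProper.isProper_toSpec n (ULift.{u} ℤ)
  exact MorphismProperty.pullback_snd _ _ inferInstance

/-- Vanishing of `R^q p_*` on the charts. -/
theorem isZero_RpushAb_of_charts (F : (KRR.PY n Y).Modules) (hF : Coh.IsQCoh F) (q : ℕ)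
    (H : ∀ (V : Y.Opens) (hV : IsAffineOpen V),
      Subsingleton (Coh.HH (CohB1.ProjSpace n Γ(Y, V)) (F.restrict (chart n hV.fromSpec)) q)) :
    IsZero ((Coh.RpushAb (KRR.pr n Y) q).obj (Coh.toAb F)) := by
  refine CohqB.RelVan.isZero_RpushAb_of_cover _ F hF q fun x => ?_
  obtain ⟨_, ⟨V, hV, rfl⟩, hx, -⟩ := Y.isBasis_affineOpens.exists_subset_of_mem_open
    (Set.mem_univ x) isOpen_univ
  have := H V hV
  exact ⟨V, hx, hV, (chartHH n hV F q).toEquiv.subsingleton⟩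

/-- `O(d) ⊗ p^* E` is regular for `d ≥ 0`. -/
theorem isRegSheaf_twF_pull (E : Y.Modules) (hE : FlatMod.IsFinLocFree E) (d : ℤ) (hd : 0 ≤ d) :
    KRR.IsRegSheaf n Y (KRR.twF n Y d ((Scheme.Modules.pullback (KRR.pr n Y)).obj E)) := by
  intro q hq
  have hf : FlatMod.IsFinLocFree ((Scheme.Modules.pullback (KRR.pr n Y)).obj E) :=
    PerfB.FlatPull.isFinLocFree_pullback _ hE
  refine isZero_RpushAb_of_charts n _ (PerfA.QCohEpi.isQCoh_of_isFinLocFree
    (Sga67.TwistOver.isFinLocFree_tw n Y _ _ (Sga67.TwistOver.isFinLocFree_tw n Y _ _ hf))) q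
    fun V hV => ?_
  obtain ⟨e⟩ := Sga67.TwistOver.nonempty_tw_tw n Y (-(q : ℤ)) d
    ((Scheme.Modules.pullback (KRR.pr n Y)).obj E)
  have hE' : FlatMod.IsFinLocFree ((Scheme.Modules.pullback hV.fromSpec).obj E) :=
    PerfB.FlatPull.isFinLocFree_pullback hV.fromSpec hE
  have h1 : Subsingleton (Coh.HH (CohB1.ProjSpace n Γ(Y, V))
      ((tA n Γ(Y, V) (-(q : ℤ) + d)).obj ((Scheme.Modules.pullback (CohB1.ProjSpace.toSpec n Γ(Y, V))).obj
        ((Scheme.Modules.pullback hV.fromSpec).obj E))) q) :=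
    hh_pullback _ hE' _ q (S0844.result Γ(Y, V) n (-(q : ℤ) + d) q (by omega) (by omega))
  refine Fga.HShift.subsingleton_of_iso ?_ q h1
  exact ((Scheme.Modules.restrictFunctor (chart n hV.fromSpec)).mapIso e ≪≫
    restrictTensorIso n hV.fromSpec (-(q : ℤ) + d) _ ≪≫
    (tA n Γ(Y, V) (-(q : ℤ) + d)).mapIso (Sga67.PullVan.restrictPullIso n hV.fromSpec E)).symm

end Groth.Agent.Krr.H499.RegTw
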