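import Groth.Prelude.Def_KRR
import Groth.Agent.CohqB.PullTwist471
import Groth.Agent.Sga67.TwistOver

/-!
# Pull-back of the twists along `P^n_{Y₁} ⟶ P^n_Y`

For `φ : Y₁ ⟶ Y` and `ψ = KRR.projSpaceMap n φ`:
* `projSpaceMap_fst`, `projSpaceMap_pr`: the two projections;
* `pullTwistOverIso`: `ψ^* O(d) ≅ O(d)`;
* `pullTwFIso`: `ψ^* (F(d)) ≅ (ψ^* F)(d)`;
* `pullPrIso`: `ψ^* p^* E ≅ p₁^* φ^* E`;
* `nonempty_pull_twF_pr`: `ψ^* (p^*E (d)) ≅ (p₁^* φ^* E)(d)`.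
-/

set_option autoImplicit false

universe u

open CategoryTheory CategoryTheory.Limits AlgebraicGeometry

namespace Groth.Agent.Krr.H499.PullTw

variable (n : ℕ) {Y Y₁ : Scheme.{u}} (φ : Y₁ ⟶ Y)

/-- The projection `P^n_Y ⟶ P^n_ℤ`. -/
noncomputable abbrev fst (n : ℕ) (Y : Scheme.{u}) : KRR.PY n Y ⟶ CohB1.ProjSpace n (ULift.{u} ℤ) :=
  pullback.fst (CohB1.ProjSpace.toSpec n (ULift.{u} ℤ)) (specULiftZIsTerminal.from Y)

@[reassoc]
theorem projSpaceMap_fst : KRR.projSpaceMap n φ ≫ fst n Y = fst n Y₁ := by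
  simp only [KRR.projSpaceMap, fst]
  exact (pullback.lift_fst _ _ _).trans (Category.comp_id _)

@[reassoc]
theorem projSpaceMap_pr : KRR.projSpaceMap n φ ≫ KRR.pr n Y = KRR.pr n Y₁ ≫ φ := by
  simp only [KRR.projSpaceMap, KRR.pr, CohB1.ProjSpaceOver.toBase]
  exact pullback.lift_snd _ _ _

/-- `ψ^* O(d) ≅ O(d)`. -/
noncomputable def pullTwistOverIso (d : ℤ) :
    (Scheme.Modules.pullback (KRR.projSpaceMap n φ)).obj (Twist.twistOver n Y d) ≅
      Twist.twistOver n Y₁ d :=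
  (Scheme.Modules.pullbackComp (KRR.projSpaceMap n φ) (fst n Y)).app _ ≪≫
    (Scheme.Modules.pullbackCongr (projSpaceMap_fst n φ)).app _

/-- `ψ^* (F(d)) ≅ (ψ^* F)(d)`. -/
noncomputable def pullTwFIso (d : ℤ) (F : (KRR.PY n Y).Modules) :
    (Scheme.Modules.pullback (KRR.projSpaceMap n φ)).obj (KRR.twF n Y d F) ≅
      KRR.twF n Y₁ d ((Scheme.Modules.pullback (KRR.projSpaceMap n φ)).obj F) :=
  CohqB.PullTwist471.pullTensorIsoLeft (KRR.projSpaceMap n φ)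
    (CohqB.PullTwist471.hasBases_of_isInvertible (Ega3B.ProjFrame.isInvertible_twistOver n d)) F ≪≫
    Ega2.Tens.mapTIso (pullTwistOverIso n φ d) (Iso.refl _)

/-- `ψ^* p^* E ≅ p₁^* φ^* E`. -/
noncomputable def pullPrIso (E : Y.Modules) :
    (Scheme.Modules.pullback (KRR.projSpaceMap n φ)).obj
        ((Scheme.Modules.pullback (KRR.pr n Y)).obj E) ≅
      (Scheme.Modules.pullback (KRR.pr n Y₁)).obj ((Scheme.Modules.pullback φ).obj E) :=
  (Scheme.Modules.pullbackComp (KRR.projSpaceMap n φ) (KRR.pr n Y)).app _ ≪≫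
    (Scheme.Modules.pullbackCongr (projSpaceMap_pr n φ)).app _ ≪≫
    ((Scheme.Modules.pullbackComp (KRR.pr n Y₁) φ).app _).symm

/-- `ψ^* (p^*E (d)) ≅ (p₁^* φ^* E)(d)`. -/
noncomputable def pullTwFPrIso (d : ℤ) (E : Y.Modules) :
    (Scheme.Modules.pullback (KRR.projSpaceMap n φ)).obj
        (KRR.twF n Y d ((Scheme.Modules.pullback (KRR.pr n Y)).obj E)) ≅
      KRR.twF n Y₁ d ((Scheme.Modules.pullback (KRR.pr n Y₁)).obj ((Scheme.Modules.pullback φ).obj E)) :=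
  pullTwFIso n φ d _ ≪≫ Ega2.Tens.mapTIso (Iso.refl _) (pullPrIso n φ E)

end Groth.Agent.Krr.H499.PullTw
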