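import Groth.Agent.Krr.H499.Gen
import Groth.Agent.Krr.H499.RegTw
import Groth.Agent.Krr.H482.PullLambda
import Groth.Agent.Krr.H484.PnFree
import Groth.Agent.Krr.H487.PullExt
import Groth.Agent.Krr.H446.PushFilt
import Groth.Agent.Krr.H442.AmpleClass
import Groth.Agent.Sga67.PushTwist

/-!
# The push-forward `p_K : K(P^n_Y) → K(Y)` on the classes `l^m p^K y`, `l = [O(1)]`

Models `KP`, `KY` of `K(P^n_Y)`, `K(Y)`; `line φP m = φP [O(m)]`, `m : ℤ`.

* `line_zero`, `line_add`: `l_0 = 1`, `l_{i+j} = l_i l_j`; `twF_pull`: `φP [O(i) ⊗ p^* E] = l_i p^K [E]`.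
* `push_line_mul_pull`: `p_K (l_m p^K y) = C(m + n, n) y`, `m ≥ 0`.
* `hom_ext`: additive maps from `KP` which agree on `l_i p^K y`, `0 ≤ i ≤ n`, are equal.
* `projection_formula`: `p_K (x p^K y) = p_K x y`.
* `one_sub_line_pow`: `(1 - l_{-1})^{n+1} = 0`.
* `push_all`: `p_K (l_{a-j} (1 - l_{-1})^{n-j} p^K y) = C(a, j) y`, `a : ℕ`, `j ≤ n`.
-/

set_option autoImplicit false

universe v w t u

open CategoryTheory CategoryTheory.Limits AlgebraicGeometry

namespace Groth.Agent.Krr.H499.PushPrK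

open Groth.Agent.Krr.H482.PullLambda KRR

section Algebra

variable {K : Type v} [CommRing K] {Q : Type w} [AddCommGroup Q]

/-- The value of an additive map on `l^(a-j) (1 - l⁻¹)^(n-j)` if it is known on `l^m`, `m ≥ 0`. -/
theorem eval_all (l : ℤ → K) (hl : ∀ i j, l (i + j) = l i * l j) (n : ℕ)
    (hnil : (1 - l (-1)) ^ (n + 1) = 0) (G : K →+ Q) (c : Q)
    (hG : ∀ m : ℕ, G (l m) = (m + n).choose n • c) (a j : ℕ) (hj : j ≤ n) :
    G (l ((a : ℤ) - j) * (1 - l (-1)) ^ (n - j)) = a.choose j • c := by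
  have hrec : ∀ (a j : ℕ), j + 1 ≤ n →
      G (l (((a + 1 : ℕ) : ℤ) - ((j + 1 : ℕ) : ℤ)) * (1 - l (-1)) ^ (n - (j + 1))) =
      G (l ((a : ℤ) - ((j + 1 : ℕ) : ℤ)) * (1 - l (-1)) ^ (n - (j + 1))) +
        G (l ((a : ℤ) - (j : ℤ)) * (1 - l (-1)) ^ (n - j)) := by
    intro a j hj
    rw [← map_add]
    congr 1
    have h1 : n - j = (n - (j + 1)) + 1 := by omega
    have h2 : l ((a : ℤ) - ((j + 1 : ℕ) : ℤ)) = l ((a : ℤ) - j) * l (-1) := by
      rw [← hl]; congr 1; push_cast; ring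
    have h3 : l (((a + 1 : ℕ) : ℤ) - ((j + 1 : ℕ) : ℤ)) = l ((a : ℤ) - j) := by
      congr 1; push_cast; ring
    rw [h1, h2, h3, pow_succ]
    ring
  have hrec0 : ∀ a : ℕ, G (l (((a + 1 : ℕ) : ℤ) - ((0 : ℕ) : ℤ)) * (1 - l (-1)) ^ (n - 0)) =
      G (l ((a : ℤ) - ((0 : ℕ) : ℤ)) * (1 - l (-1)) ^ (n - 0)) := by
    intro a
    have h2 : l ((a : ℤ) - ((0 : ℕ) : ℤ)) = l (((a + 1 : ℕ) : ℤ) - ((0 : ℕ) : ℤ)) * l (-1) := by
      rw [← hl]; congr 1; push_cast; ring
    rw [← sub_eq_zero, ← map_sub, h2]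
    have h3 : l (((a + 1 : ℕ) : ℤ) - ((0 : ℕ) : ℤ)) * (1 - l (-1)) ^ (n - 0) -
        l (((a + 1 : ℕ) : ℤ) - ((0 : ℕ) : ℤ)) * l (-1) * (1 - l (-1)) ^ (n - 0) =
        l (((a + 1 : ℕ) : ℤ) - ((0 : ℕ) : ℤ)) * (1 - l (-1)) ^ (n + 1) := by
      rw [Nat.sub_zero, pow_succ]; ring
    rw [h3, hnil, mul_zero, map_zero]
  -- large `a`
  have hA : ∀ i : ℕ, i ≤ n → ∀ a : ℕ, n ≤ a →
      G (l ((a : ℤ) - ((n - i : ℕ) : ℤ)) * (1 - l (-1)) ^ (n - (n - i))) = a.choose (n - i) • c := by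
    intro i
    induction i with
    | zero =>
      intro _ a ha
      obtain ⟨m, rfl⟩ := Nat.exists_eq_add_of_le' ha
      rw [Nat.sub_zero, Nat.sub_self, pow_zero, mul_one]
      have : ((m + n : ℕ) : ℤ) - (n : ℤ) = ((m : ℕ) : ℤ) := by push_cast; ring
      rw [this, hG]
    | succ i ih =>
      intro hi a ha
      have h1 := hrec a (n - (i + 1)) (by omega)
      rw [show n - (i + 1) + 1 = n - i by omega] at h1
      rw [ih (by omega) (a + 1) (by omega), ih (by omega) a ha] at h1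
      have h2 : (a + 1).choose (n - i) = a.choose (n - (i + 1)) + a.choose (n - i) := by
        rw [show n - i = (n - (i + 1)) + 1 by omega, Nat.choose_succ_succ]
      rw [h2, add_smul, add_comm] at h1
      exact (add_left_cancel h1).symm
  have hA' : ∀ (a j : ℕ), j ≤ n → n ≤ a →
      G (l ((a : ℤ) - (j : ℤ)) * (1 - l (-1)) ^ (n - j)) = a.choose j • c := by
    intro a j hj ha
    have := hA (n - j) (by omega) a ha
    rwa [show n - (n - j) = j by omega] at this
  -- small `a`: descend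
  have hB : ∀ (j : ℕ), j ≤ n → ∀ (k a : ℕ), n ≤ a + k →
      G (l ((a : ℤ) - (j : ℤ)) * (1 - l (-1)) ^ (n - j)) = a.choose j • c := by
    intro j
    induction j with
    | zero =>
      intro _ k
      induction k with
      | zero => intro a ha; exact hA' a 0 (Nat.zero_le _) ha
      | succ k ih =>
        intro a ha
        rw [← hrec0 a, ih (a + 1) (by omega), Nat.choose_zero_right, Nat.choose_zero_right]
    | succ j ihj =>
      intro hj k
      induction k with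
      | zero => intro a ha; exact hA' a (j + 1) hj ha
      | succ k ih =>
        intro a ha
        have h1 := hrec a j hj
        rw [ih (a + 1) (by omega), ihj (by omega) (k + 1) a ha, Nat.choose_succ_succ, add_smul,
          add_comm] at h1
        exact (add_right_cancel h1).symm
  exact hB j hj n a (by omega)

end Algebra

section Models

variable {n : ℕ} {Y : Scheme.{u}} {KP : Type v} [CommRing KP] [LambdaRing.LambdaOps KP]
  {PP : LambdaRing.PosStructure KP} {φP : SGA6.Kvb (KRR.PY n Y) →+ KP}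
  {KY : Type w} [CommRing KY] [LambdaRing.LambdaOps KY] {PY : LambdaRing.PosStructure KY}
  {φY : SGA6.Kvb Y →+ KY} {g : KP →+ KY} {q : KY →+ KP}

/-- `[O(m)]` in a model of `K(P^n_Y)`. -/
noncomputable def line (φP : SGA6.Kvb (KRR.PY n Y) →+ KP) (m : ℤ) : KP :=
  φP (cl (KRR.PY n Y) (Twist.twistOver n Y m))

theorem isFinLocFree_twistOver (n : ℕ) (Y : Scheme.{u}) (m : ℤ) :
    FlatMod.IsFinLocFree (Twist.twistOver n Y m) := by
  have h := Sga67.TwistOver.isFinLocFree_tw n Y m _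
    (Sga67.TensorOps.isFinLocFree_structureModule (X := KRR.PY n Y))
  exact Dcoh.FinLocFree.isFinLocFree_of_iso (Ega2.Tens.runit (Twist.twistOver n Y m)) h

theorem line_zero (hKP : KRR.IsModel (KRR.PY n Y) KP PP φP) : line φP 0 = 1 := by
  obtain ⟨e⟩ := Sga67.TwistOver.nonempty_twistOver_zero n Y
  rw [line, cl_iso e (isFinLocFree_twistOver n Y 0), hKP.map_one]

theorem line_add (hKP : KRR.IsModel (KRR.PY n Y) KP PP φP) (i j : ℤ) :
    line φP (i + j) = line φP i * line φP j := by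
  obtain ⟨e⟩ := Sga67.TwistOver.nonempty_twistOver_mul n Y i j
  rw [line, line, line, hKP.map_mul _ _ (isFinLocFree_twistOver n Y i)
    (isFinLocFree_twistOver n Y j)]
  exact congrArg φP (cl_iso e.symm (isFinLocFree_twistOver n Y (i + j)))

/-- `[O(m) ⊗ M] = [O(m)] [M]`. -/
theorem cl_twF (hKP : KRR.IsModel (KRR.PY n Y) KP PP φP) (m : ℤ) {M : (KRR.PY n Y).Modules}
    (hM : FlatMod.IsFinLocFree M) :
    φP (cl (KRR.PY n Y) (KRR.twF n Y m M)) = line φP m * φP (cl (KRR.PY n Y) M) :=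
  (hKP.map_mul _ _ (isFinLocFree_twistOver n Y m) hM).symm

theorem twF_structure (hKP : KRR.IsModel (KRR.PY n Y) KP PP φP) (m : ℤ) :
    φP (cl (KRR.PY n Y) (KRR.twF n Y m (Coh.structureModule (KRR.PY n Y)))) = line φP m := by
  rw [cl_twF hKP m Sga67.TensorOps.isFinLocFree_structureModule, hKP.map_one, mul_one]

omit [LambdaRing.LambdaOps KY] in
theorem twF_pull (hKP : KRR.IsModel (KRR.PY n Y) KP PP φP) (hq : KRR.IsPull (KRR.pr n Y) φY φP q)
    (m : ℤ) {E : Y.Modules} (hE : FlatMod.IsFinLocFree E) :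
    φP (cl (KRR.PY n Y) (KRR.twF n Y m ((Scheme.Modules.pullback (KRR.pr n Y)).obj E))) =
      line φP m * q (φY (cl Y E)) := by
  rw [cl_twF hKP m (PerfB.FlatPull.isFinLocFree_pullback _ hE), hq E hE]

/-- `p_K (l_m p^K y) = C(m + n, n) y` for `m ≥ 0`. -/
theorem push_line_mul_pull (hKP : KRR.IsModel (KRR.PY n Y) KP PP φP)
    (hKY : KRR.IsModel Y KY PY φY) (hg : KRR.IsPushPr n Y φP φY g)
    (hq : KRR.IsPull (KRR.pr n Y) φY φP q) (m : ℕ) (y : KY) :
    g (line φP m * q y) = (m + n).choose n • y := by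
  refine model_induction hKY (C := fun y => g (line φP m * q y) = (m + n).choose n • y)
    (fun r E _ hE' => ?_) (fun a b ha hb => ?_) y
  · have hE := isFinLocFree_of_rank hE'
    have hF : FlatMod.IsFinLocFree
        (KRR.twF n Y (m : ℤ) ((Scheme.Modules.pullback (KRR.pr n Y)).obj E)) :=
      Sga67.TwistOver.isFinLocFree_tw n Y m _ (PerfB.FlatPull.isFinLocFree_pullback _ hE)
    rw [← twF_pull hKP hq m hE, hg _ hF (RegTw.isRegSheaf_twF_pull n E hE m (by positivity)),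
      ← map_nsmul]
    exact congrArg φY (Sga67.PushTwist.clSub_push_tw_pull n Y m hE)
  · rw [map_sub, mul_sub, map_sub, ha, hb, smul_sub]

/-- `p_K 1 = 1`. -/
theorem push_one (hKP : KRR.IsModel (KRR.PY n Y) KP PP φP)
    (hKY : KRR.IsModel Y KY PY φY) (hg : KRR.IsPushPr n Y φP φY g) : g 1 = 1 := by
  obtain ⟨q, hq⟩ := exists_isPull (KRR.pr n Y) hKY.bijective φP
  have h := push_line_mul_pull hKP hKY hg hq 0 1
  rwa [Nat.cast_zero, line_zero hKP, pull_one hKP hKY hq, mul_one, zero_add, Nat.choose_self,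
    one_smul] at h

/-- Additive maps out of `K(P^n_Y)` which agree on `l_i p^K y`, `i ≤ n`. -/
theorem hom_ext [CompactSpace Y] (hKP : KRR.IsModel (KRR.PY n Y) KP PP φP)
    (hq : KRR.IsPull (KRR.pr n Y) φY φP q) {A : Type t} [AddCommGroup A] {a b : KP →+ A}
    (h : ∀ i : ℕ, i ≤ n → ∀ y : KY, a (line φP i * q y) = b (line φP i * q y)) : a = b := by
  refine AddMonoidHom.ext fun z => ?_
  obtain ⟨w, rfl⟩ := hKP.bijective.2 z
  have key : a.comp φP = b.comp φP := by
    refine Gen.hom_ext n Y fun i hi E hE => ?_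
    rw [AddMonoidHom.comp_apply, AddMonoidHom.comp_apply, twF_pull hKP hq i hE]
    exact h i hi _
  exact DFunLike.congr_fun key w

/-- The projection formula. -/
theorem projection_formula [CompactSpace Y] (hKP : KRR.IsModel (KRR.PY n Y) KP PP φP)
    (hKY : KRR.IsModel Y KY PY φY) (hg : KRR.IsPushPr n Y φP φY g)
    (hq : KRR.IsPull (KRR.pr n Y) φY φP q) (x : KP) (y : KY) : g (x * q y) = g x * y := by
  have key : g.comp (AddMonoidHom.mulRight (q y)) = (AddMonoidHom.mulRight y).comp g := by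
    refine hom_ext hKP hq fun i _ z => ?_
    simp only [AddMonoidHom.comp_apply, AddMonoidHom.mulRight_apply]
    rw [mul_assoc, ← pull_mul hKP hKY hq, push_line_mul_pull hKP hKY hg hq,
      push_line_mul_pull hKP hKY hg hq, smul_mul_assoc]
  exact DFunLike.congr_fun key x

/-- `(l - 1)^(n+1) = 0`. -/
theorem line_sub_one_pow (hKP : KRR.IsModel (KRR.PY n Y) KP PP φP)
    (hKY : KRR.IsModel Y KY PY φY) : (line φP 1 - 1) ^ (n + 1) = 0 := by
  obtain ⟨q, hq⟩ := exists_isPull (KRR.pr n Y) hKY.bijective φP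
  obtain ⟨s, hs⟩ := H484.PnFree.exists_isProjBundle_free n Y
  have hfree : FlatMod.IsFinLocFreeOfRank (n + 1) (FlatMod.freeMod Y (n + 1)) :=
    Groth.Agent.Krr.H495.Rank.isFinLocFreeOfRank_iff'.2 fun _ =>
      ⟨⊤, _root_.trivial, _, Sga67.LocBasis.free_isLocBasis Y (n + 1)⟩
  have h := H487.PullExt.taut_relation hKP hKY hq hfree hs.invertible s hs.epi
  have h1 : φY (cl Y (FlatMod.freeMod Y (n + 1))) = ((n + 1 : ℕ) : KY) :=
    H442.AmpleClass.model_freeMod hKY (n + 1)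
  rw [h1] at h
  have h2 := H446.PushFilt.sum_lam_natCast PY (pullRingHom hKP hKY hq) (line φP 1) n
  exact h2.symm.trans h

/-- `(1 - l⁻¹)^(n+1) = 0`. -/
theorem one_sub_line_pow (hKP : KRR.IsModel (KRR.PY n Y) KP PP φP)
    (hKY : KRR.IsModel Y KY PY φY) : (1 - line φP (-1)) ^ (n + 1) = 0 := by
  have h1 : line φP (-1) * line φP 1 = 1 := by
    rw [← line_add hKP, show (-1 : ℤ) + 1 = 0 by norm_num, line_zero hKP]
  have h2 : 1 - line φP (-1) = line φP (-1) * (line φP 1 - 1) := by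
    rw [mul_sub, h1, mul_one]
  rw [h2, mul_pow, line_sub_one_pow hKP hKY, mul_zero]

/-- `p_K (l_{a-j} (1 - l_{-1})^{n-j} p^K y) = C(a, j) y`. -/
theorem push_all (hKP : KRR.IsModel (KRR.PY n Y) KP PP φP)
    (hKY : KRR.IsModel Y KY PY φY) (hg : KRR.IsPushPr n Y φP φY g)
    (hq : KRR.IsPull (KRR.pr n Y) φY φP q) (a j : ℕ) (hj : j ≤ n) (y : KY) :
    g (line φP ((a : ℤ) - j) * (1 - line φP (-1)) ^ (n - j) * q y) = a.choose j • y :=
  eval_all (line φP) (line_add hKP) n (one_sub_line_pow hKP hKY)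
    (g.comp (AddMonoidHom.mulRight (q y))) y
    (fun m => push_line_mul_pull hKP hKY hg hq m y) a j hj

/-- `p_K ((1 - u)^i p^K y) = y` for `i ≤ n`. -/
theorem push_pow (hKP : KRR.IsModel (KRR.PY n Y) KP PP φP)
    (hKY : KRR.IsModel Y KY PY φY) (hg : KRR.IsPushPr n Y φP φY g)
    (hq : KRR.IsPull (KRR.pr n Y) φY φP q) (i : ℕ) (hi : i ≤ n) (y : KY) :
    g (q y * (1 - line φP (-1)) ^ i) = y := by
  have h := push_all hKP hKY hg hq (n - i) (n - i) (by omega) y
  rw [sub_self, line_zero hKP, one_mul, Nat.choose_self, one_smul,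
    show n - (n - i) = i by omega, mul_comm] at h
  exact h

/-- `p_K (l_{-i} p^K y) = 0` for `1 ≤ i ≤ n`. -/
theorem push_line_neg (hKP : KRR.IsModel (KRR.PY n Y) KP PP φP)
    (hKY : KRR.IsModel Y KY PY φY) (hg : KRR.IsPushPr n Y φP φY g)
    (hq : KRR.IsPull (KRR.pr n Y) φY φP q) (i : ℕ) (hi : 1 ≤ i) (hin : i ≤ n) (y : KY) :
    g (line φP (-(i : ℤ)) * q y) = 0 := by
  have h := push_all hKP hKY hg hq (n - i) n le_rfl y
  rw [Nat.sub_self, pow_zero, mul_one, Nat.choose_eq_zero_of_lt (by omega), zero_smul] at h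
  have h1 : ((n - i : ℕ) : ℤ) - (n : ℤ) = -(i : ℤ) := by
    rw [Nat.cast_sub hin]; ring
  rwa [h1] at h

end Models

end Groth.Agent.Krr.H499.PushPrK
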