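import Groth.Agent.Krr.H499.PushPrK

/-!
# The presentation of `K(P^n_Y)`

`u = line φP (-1) = φP [O(-1)]`, `h = 1 - u`, `h^(n+1) = 0`.

* `exists_expansion`: every `x` is `Σ_{i ≤ n} q(y_i) h^i`;
* `expansion_unique`, `bijective_expansion`: the `y_i` are unique.
-/

set_option autoImplicit false

universe v w t u

open CategoryTheory CategoryTheory.Limits AlgebraicGeometry

namespace Groth.Agent.Krr.H499.PushPrK

open Groth.Agent.Krr.H482.PullLambda KRR

variable {n : ℕ} {Y : Scheme.{u}} {KP : Type v} [CommRing KP] [LambdaRing.LambdaOps KP]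
  {PP : LambdaRing.PosStructure KP} {φP : SGA6.Kvb (KRR.PY n Y) →+ KP}
  {KY : Type w} [CommRing KY] [LambdaRing.LambdaOps KY] {PY : LambdaRing.PosStructure KY}
  {φY : SGA6.Kvb Y →+ KY} {g : KP →+ KY} {q : KY →+ KP}

/-- `(y_i) ↦ Σ_{i ≤ n} q(y_i) h^i`. -/
noncomputable def expMap (n : ℕ) (q : KY →+ KP) (h : KP) : (Fin (n + 1) → KY) →+ KP where
  toFun y := ∑ i : Fin (n + 1), q (y i) * h ^ (i : ℕ)
  map_zero' := by simp
  map_add' a b := by simp [add_mul, Finset.sum_add_distrib]

omit [LambdaRing.LambdaOps KP] [LambdaRing.LambdaOps KY] in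
theorem mem_range_expMap (h : KP) (hn : h ^ (n + 1) = 0) (y : KY) (k : ℕ) :
    q y * h ^ k ∈ (expMap n q h).range := by
  rcases Nat.lt_or_ge n k with hk | hk
  · obtain ⟨c, rfl⟩ := Nat.exists_eq_add_of_lt hk
    rw [show n + c + 1 = (n + 1) + c by ring, pow_add, hn, zero_mul, mul_zero]
    exact zero_mem _
  · refine ⟨Pi.single ⟨k, Nat.lt_succ_of_le hk⟩ y, ?_⟩
    change ∑ i : Fin (n + 1), q ((Pi.single (⟨k, Nat.lt_succ_of_le hk⟩ : Fin (n + 1)) y :
      Fin (n + 1) → KY) i) * h ^ (i : ℕ) = _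
    rw [Finset.sum_eq_single (⟨k, Nat.lt_succ_of_le hk⟩ : Fin (n + 1))]
    · rw [Pi.single_eq_same]
    · intro i _ hi
      rw [Pi.single_eq_of_ne hi, map_zero, zero_mul]
    · intro hi
      exact absurd (Finset.mem_univ _) hi

/-- `l = Σ_{k ≤ n} (1 - u)^k`. -/
theorem line_one_eq (hKP : KRR.IsModel (KRR.PY n Y) KP PP φP)
    (hKY : KRR.IsModel Y KY PY φY) :
    line φP 1 = ∑ k ∈ Finset.range (n + 1), (1 - line φP (-1)) ^ k := by
  have h1 : line φP 1 * line φP (-1) = 1 := by
    rw [← line_add hKP, show (1 : ℤ) + -1 = 0 by norm_num, line_zero hKP]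
  have h2 := geom_sum_mul_neg (1 - line φP (-1)) (n + 1)
  rw [one_sub_line_pow hKP hKY, sub_zero, sub_sub_cancel] at h2
  calc line φP 1 = line φP 1 *
        ((∑ k ∈ Finset.range (n + 1), (1 - line φP (-1)) ^ k) * line φP (-1)) := by
        rw [h2, mul_one]
    _ = (line φP 1 * line φP (-1)) * ∑ k ∈ Finset.range (n + 1), (1 - line φP (-1)) ^ k := by
        ring
    _ = _ := by rw [h1, one_mul]

theorem line_mul_mem (hKP : KRR.IsModel (KRR.PY n Y) KP PP φP)
    (hKY : KRR.IsModel Y KY PY φY) (i : ℕ) (y : KY) (k : ℕ) :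
    line φP i * (q y * (1 - line φP (-1)) ^ k) ∈ (expMap n q (1 - line φP (-1))).range := by
  induction i generalizing k with
  | zero =>
    rw [Nat.cast_zero, line_zero hKP, one_mul]
    exact mem_range_expMap _ (one_sub_line_pow hKP hKY) y k
  | succ i ih =>
    have h1 : line φP ((i + 1 : ℕ) : ℤ) = line φP i * line φP 1 := by
      rw [← line_add hKP]; congr 1
    rw [h1, line_one_eq hKP hKY, Finset.mul_sum, Finset.sum_mul]
    refine sum_mem fun j _ => ?_
    have h2 : line φP (i : ℤ) * (1 - line φP (-1)) ^ j * (q y * (1 - line φP (-1)) ^ k) =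
        line φP i * (q y * (1 - line φP (-1)) ^ (k + j)) := by
      rw [pow_add]; ring
    rw [h2]
    exact ih (k + j)

/-- Every element of `K(P^n_Y)` is `Σ_{i ≤ n} q(y_i) (1 - u)^i`. -/
theorem exists_expansion [CompactSpace Y] (hKP : KRR.IsModel (KRR.PY n Y) KP PP φP)
    (hKY : KRR.IsModel Y KY PY φY) (hq : KRR.IsPull (KRR.pr n Y) φY φP q) (x : KP) :
    ∃ y : Fin (n + 1) → KY, x = ∑ i : Fin (n + 1), q (y i) * (1 - line φP (-1)) ^ (i : ℕ) := by
  have key : QuotientAddGroup.mk' (expMap n q (1 - line φP (-1))).range = 0 := by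
    refine hom_ext hKP hq fun i _ y => ?_
    rw [AddMonoidHom.zero_apply, QuotientAddGroup.mk'_apply, QuotientAddGroup.eq_zero_iff]
    have h := line_mul_mem (q := q) hKP hKY i y 0
    rwa [pow_zero, mul_one] at h
  have h1 : x ∈ (expMap n q (1 - line φP (-1))).range := by
    rw [← QuotientAddGroup.eq_zero_iff, ← QuotientAddGroup.mk'_apply, key]
    rfl
  obtain ⟨y, hy⟩ := h1
  exact ⟨y, hy.symm⟩

/-- If `g (q y h^i) = y` for `i ≤ n` and `h^(n+1) = 0` then the expansion is unique. -/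
theorem expMap_injective {h : KP} (hn : h ^ (n + 1) = 0)
    (hp : ∀ i ≤ n, ∀ y : KY, g (q y * h ^ i) = y) :
    Function.Injective (expMap n q h) := by
  rw [injective_iff_map_eq_zero]
  intro y hy
  have hy' : ∑ i : Fin (n + 1), q (y i) * h ^ (i : ℕ) = 0 := hy
  have hbig : ∀ i, n < i → h ^ i = 0 := by
    intro i hi
    obtain ⟨c, rfl⟩ := Nat.exists_eq_add_of_lt hi
    rw [show n + c + 1 = (n + 1) + c by ring, pow_add, hn, zero_mul]
  have key : ∀ j : ℕ, ∀ hj : j ≤ n, y ⟨j, Nat.lt_succ_of_le hj⟩ = 0 := by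
    intro j
    induction j using Nat.strong_induction_on with
    | _ j ih =>
      intro hj
      have h1 : (∑ i : Fin (n + 1), q (y i) * h ^ (i : ℕ)) * h ^ (n - j) =
          q (y ⟨j, Nat.lt_succ_of_le hj⟩) * h ^ n := by
        rw [Finset.sum_mul, Finset.sum_eq_single (⟨j, Nat.lt_succ_of_le hj⟩ : Fin (n + 1))]
        · rw [mul_assoc, ← pow_add]
          congr 2
          change j + (n - j) = n
          omega
        · intro i _ hi
          rcases Nat.lt_trichotomy (i : ℕ) j with hlt | heq | hgt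
          · have h2 := ih i hlt (by omega)
            have h3 : (⟨(i : ℕ), Nat.lt_succ_of_le (by omega : (i : ℕ) ≤ n)⟩ : Fin (n + 1)) = i :=
              Fin.ext rfl
            rw [h3] at h2
            rw [h2, map_zero, zero_mul, zero_mul]
          · exact absurd (Fin.ext heq) hi
          · rw [mul_assoc, ← pow_add, hbig _ (by omega), mul_zero]
        · intro hi
          exact absurd (Finset.mem_univ _) hi
      rw [hy', zero_mul] at h1
      have h2 := hp n le_rfl (y ⟨j, Nat.lt_succ_of_le hj⟩)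
      rw [← h1, map_zero] at h2
      exact h2.symm
  funext i
  exact key i (Nat.lt_succ_iff.1 i.2)

/-- `(y_i) ↦ Σ_{i ≤ n} q(y_i) (1 - u)^i` is bijective. -/
theorem bijective_expMap [CompactSpace Y] (hKP : KRR.IsModel (KRR.PY n Y) KP PP φP)
    (hKY : KRR.IsModel Y KY PY φY) (hg : KRR.IsPushPr n Y φP φY g)
    (hq : KRR.IsPull (KRR.pr n Y) φY φP q) :
    Function.Bijective (expMap n q (1 - line φP (-1))) :=
  ⟨expMap_injective (g := g) (one_sub_line_pow hKP hKY)
    (fun i hi y => push_pow hKP hKY hg hq i hi y),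
   fun x => by
    obtain ⟨y, hy⟩ := exists_expansion hKP hKY hq x
    exact ⟨y, hy.symm⟩⟩

end Groth.Agent.Krr.H499.PushPrK
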